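import Cfsg.Agent.SimpleFacts.MinDegExc.Data.E8
import Cfsg.Agent.SimpleFacts.MinDegExc.Tables
import Cfsg.Agent.Lib.Chevalley.Types.All

/-! The checks for type E8, by kernel computation. -/

set_option autoImplicit false

namespace Cfsg.Agent.SimpleFacts.MinDegExc.Data

open Cfsg.Agent.SimpleFacts.MinDegExc Cfsg.Agent.Chevalley.Table

theorem e8_link : linkTb tE8 Cfsg.Agent.Chevalley.Data.E8.tab = true := by decide +kernel

theorem e8_chk : e8.chk tE8.sys = true := by decide +kernel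

theorem e8_exps : (e8Lvl.R.map fun e => e8Lvl.aExp tE8.sys e).isPerm
    [0, 1, 2, 3, 4, 5, 5, 6, 6, 7, 7, 8, 8, 9, 9, 9, 10, 10, 10, 11, 11, 11, 12, 12, 12, 13, 13, 13,
      14, 14, 14, 15, 15, 15, 16, 16, 16, 17, 17, 17, 18, 18, 18, 19, 19, 20, 20, 21, 21, 22, 22,
      23, 24, 25, 26, 27] = true := by decide +kernel

theorem e8_fixed :
    ((e8Lvl.R.filter fun e => !e8Lvl.moved tE8.sys e8Lvl.a e).map fun e =>
      e8Lvl.aExp tE8.sys e).isPerm
    [0, 1, 2, 3, 4, 5, 5, 6, 6, 7, 7, 8, 8, 9, 9, 9, 10, 10, 10, 11, 11, 11, 12, 12, 12, 13, 13, 13,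
      14, 14, 14, 15, 15, 15, 16, 16, 16, 17, 17, 18, 18, 19, 20, 21] = true := by decide +kernel

theorem e8_nfix : e8.nfix tE8.sys = 22 := by decide +kernel

theorem e7_chk : e7Lvl.chk tE8.sys = true := by decide +kernel

theorem e7_exps : (e7Lvl.R.map fun e => e7Lvl.aExp tE8.sys e).isPerm
    [0, 1, 2, 3, 4, 4, 5, 5, 6, 6, 7, 7, 8, 8, 8, 9, 9, 10, 10, 11, 11, 12, 12, 13, 14, 15, 16]
      = true := by decide +kernel

theorem e7_fixed :
    ((e7Lvl.R.filter fun e => !e7Lvl.moved tE8.sys e7Lvl.a e).map fun e =>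
      e7Lvl.aExp tE8.sys e).isPerm
    [0, 1, 2, 3, 4, 4, 5, 5, 6, 6, 7, 7, 8, 8, 8, 9, 9, 10, 10, 11, 12] = true := by decide +kernel

theorem e7_conn : connChk tE8.sys (e8Lvl.a :: e8Lvl.L) [e8Lvl.a] e8Lvl.L = true ∧
    e7Lvl.roots.all (fun r => (e8Lvl.a :: e8Lvl.L).contains r) = true ∧
    e7Lvl.R.all (fun b => e7Lvl.R.all fun c =>
      tE8.sys.sm b c == tE8.n && !(c == tE8.sys.ng b)) = true := by decide +kernel

theorem e6in8_chk : e6in8.chk tE8.sys = true := by decide +kernel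

theorem e6in8_exps : (e6in8Lvl.R.map fun e => e6in8Lvl.aExp tE8.sys e).isPerm
    [0, 1, 2, 2, 3, 3, 3, 4, 4, 4, 5, 5, 5, 6, 6, 6, 7, 7, 8, 9] = true := by decide +kernel

theorem e6in8_fixed :
    ((e6in8Lvl.R.filter fun e => !e6in8Lvl.moved tE8.sys e6in8Lvl.a e).map fun e =>
      e6in8Lvl.aExp tE8.sys e).isPerm
    [0, 1, 2, 2, 3, 3, 3, 4, 4, 4, 5, 5, 6, 6] = true := by decide +kernel

theorem e6in8_nfix : e6in8.nfix tE8.sys = 7 := by decide +kernel

theorem e6in8_sub : (e6in8.th :: e6in8.rest).all (fun r => (e7Lvl.a :: e7Lvl.L).contains r) &&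
    (e7Lvl.a :: e7Lvl.L).all (fun r => (e6in8.th :: e6in8.rest).contains r) = true := by
  decide +kernel

end Cfsg.Agent.SimpleFacts.MinDegExc.Data
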