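import Cfsg.Agent.SimpleFacts.MinDegExc.Data.E6
import Cfsg.Agent.SimpleFacts.MinDegExc.Tables
import Cfsg.Agent.Lib.Chevalley.Types.All

/-! The checks for type E6, by kernel computation. -/

set_option autoImplicit false

namespace Cfsg.Agent.SimpleFacts.MinDegExc.Data

open Cfsg.Agent.SimpleFacts.MinDegExc Cfsg.Agent.Chevalley.Table

theorem e6_link : linkTb tE6 Cfsg.Agent.Chevalley.Data.E6.tab = true := by decide +kernel

theorem e6_chk : e6.chk tE6.sys = true := by decide +kernel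

theorem e6_exps : (e6Lvl.R.map fun e => e6Lvl.aExp tE6.sys e).isPerm
    [0, 1, 2, 2, 3, 3, 3, 4, 4, 4, 5, 5, 5, 6, 6, 6, 7, 7, 8, 9] = true := by decide +kernel

theorem e6_fixed :
    ((e6Lvl.R.filter fun e => !e6Lvl.moved tE6.sys e6Lvl.a e).map fun e =>
      e6Lvl.aExp tE6.sys e).isPerm
    [0, 1, 2, 2, 3, 3, 3, 4, 4, 4, 5, 5, 6, 6] = true := by decide +kernel

theorem e6_nfix : e6.nfix tE6.sys = 7 := by decide +kernel

end Cfsg.Agent.SimpleFacts.MinDegExc.Data
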