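import Cfsg.Agent.SimpleFacts.MinDegExc.Data.E6Table
import Cfsg.Agent.SimpleFacts.MinDegExc.Top

/-! Generated data of the radicals used. -/

set_option autoImplicit false

namespace Cfsg.Agent.SimpleFacts.MinDegExc.Data

open Cfsg.Agent.SimpleFacts.MinDegExc

/-- The level. -/
noncomputable def e6Lvl : Lvl where
  R := [46, 47, 48, 49, 50, 51, 52, 53, 54, 55, 61, 62, 63, 64, 65, 66, 67, 68, 69, 70]
  a := 60
  L := [36, 38, 41, 45, 56, 57, 58, 59, 12, 27, 31, 34, 13, 28, 32, 37, 14, 29, 39, 40, 15, 42, 43, 44, 26, 30, 33, 35, 11]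
  mR := 0x7fe0ffc00000000000
  mL := 0x1f003ffffc00f800
  k := 9
  st e := tE6.sys.sm 71 (tE6.sys.ng e)

/-- The radical with its centre. -/
noncomputable def e6 : Top where
  th := 71
  rest := [46, 47, 48, 49, 50, 51, 52, 53, 54, 55, 61, 62, 63, 64, 65, 66, 67, 68, 69, 70, 1, 11, 12, 13, 26, 27, 28, 30, 31, 32, 2, 14, 29, 33, 34, 39, 3, 35, 37, 40, 4, 36, 38, 41, 5, 15, 42, 43, 6, 44, 7, 45, 8, 9, 10, 16, 56, 57, 58, 17, 59, 18, 60, 19, 20, 21, 22, 23, 24, 25, 0]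
  lv := e6Lvl
  e0 := 49

/-- The roots of the subsystem of type A5. -/
def e6Root : List ℕ := [72, 56, 57, 58, 59, 60, 15, 72, 42, 43, 44, 45, 14, 29, 72, 39, 40, 41, 13, 28, 32, 72, 37, 38, 12, 27, 31, 34, 72, 36, 11, 26, 30, 33, 35, 72]

/-- Their signs. -/
def e6Neg : ℕ := 0x285891a14

end Cfsg.Agent.SimpleFacts.MinDegExc.Data
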